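import Mathlib

/-!
# Counting identities for derangements of a transitive group
-/

set_option autoImplicit false

namespace CfsgLib.DerangeTwo

open MulAction Finset

variable {G Ω : Type*} [Group G] [MulAction G Ω] [Fintype G] [Fintype Ω]

open scoped Classical in
/-- The number of fixed points. -/
noncomputable def fix (Ω : Type*) [MulAction G Ω] [Fintype Ω] (g : G) : ℕ :=
  (univ.filter fun x : Ω => g • x = x).card

theorem fix_eq_natCard (g : G) : fix Ω g = Nat.card (fixedBy Ω g) := by
  classical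
  rw [Nat.card_eq_fintype_card, fix, ← Fintype.card_subtype]
  exact Fintype.card_congr (Equiv.subtypeEquivRight fun x => Iff.rfl)

theorem fix_one : fix Ω (1 : G) = Fintype.card Ω := by
  classical
  simp [fix]

theorem fix_conj (k g : G) : fix Ω (k * g * k⁻¹) = fix Ω g := by
  classical
  refine card_bij (fun x _ => k⁻¹ • x) ?_ ?_ ?_
  · intro x hx
    simp only [mem_filter, mem_univ, true_and] at hx ⊢
    conv_rhs => rw [← hx]
    simp [mul_smul]
  · intro x _ y _ h
    exact smul_left_cancel k⁻¹ h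
  · intro y hy
    simp only [mem_filter, mem_univ, true_and] at hy
    exact ⟨k • y, by simp [mul_smul, hy], by simp⟩

theorem fix_le (g : G) : fix Ω g ≤ Fintype.card Ω := by
  classical
  exact card_filter_le _ _

theorem fix_eq_zero_iff {g : G} : fix Ω g = 0 ↔ ∀ x : Ω, g • x ≠ x := by
  classical
  simp [fix, filter_eq_empty_iff]

theorem sum_fix : ∑ g : G, fix Ω g = Nat.card (Quotient (orbitRel G Ω)) * Fintype.card G := by
  classical
  haveI : Fintype (Quotient (orbitRel G Ω)) := Fintype.ofFinite _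
  rw [Nat.card_eq_fintype_card, ← sum_card_fixedBy_eq_card_orbits_mul_card_group G Ω]
  refine sum_congr rfl fun g _ => ?_
  rw [fix_eq_natCard, Nat.card_eq_fintype_card]

/-- Two-point stabiliser. -/
abbrev pairStab (G : Type*) {Ω : Type*} [Group G] [MulAction G Ω] (x y : Ω) : Subgroup G :=
  stabilizer G x ⊓ stabilizer G y

theorem mem_pairStab {x y : Ω} {g : G} : g ∈ pairStab G x y ↔ g • x = x ∧ g • y = y := Iff.rfl

open scoped Classical in
/-- Summing a class function weighted by the ordered pairs of distinct fixed points. -/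
theorem sum_pairs (h : G → ℚ) :
    ∑ g : G, (fix Ω g : ℚ) * ((fix Ω g : ℚ) - 1) * h g =
      ∑ p ∈ univ.filter (fun p : Ω × Ω => p.1 ≠ p.2),
        ∑ g ∈ univ.filter (fun g : G => g ∈ pairStab G p.1 p.2), h g := by
  have hswap : ∑ p ∈ univ.filter (fun p : Ω × Ω => p.1 ≠ p.2),
      ∑ g ∈ univ.filter (fun g : G => g ∈ pairStab G p.1 p.2), h g =
      ∑ g : G, ∑ p ∈ univ.filter (fun p : Ω × Ω => p.1 ≠ p.2 ∧ g ∈ pairStab G p.1 p.2), h g := by
    refine sum_comm' fun p g => ?_
    simp only [mem_filter, mem_univ, true_and, and_true]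
  rw [hswap]
  refine sum_congr rfl fun g _ => ?_
  rw [sum_const, nsmul_eq_mul]
  congr 1
  set F := univ.filter fun x : Ω => g • x = x with hF
  have : (univ.filter fun p : Ω × Ω => p.1 ≠ p.2 ∧ g ∈ pairStab G p.1 p.2) = F.offDiag := by
    ext p
    simp only [mem_filter, mem_univ, true_and, mem_offDiag, hF, mem_pairStab]
    tauto
  rw [this, offDiag_card, Nat.cast_sub (Nat.le_mul_self _), Nat.cast_mul]
  show (fix Ω g : ℚ) * ((fix Ω g : ℚ) - 1) = (F.card : ℚ) * F.card - F.card
  rw [show fix Ω g = F.card from rfl]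
  ring

open scoped Classical in
/-- The weighted pair sum for a two-point-transitive group. -/
theorem sum_pairs_of_conj (h : G → ℚ) (hh : ∀ k g, h (k * g * k⁻¹) = h g) (a b : Ω) (hab : a ≠ b)
    (htwo : ∀ x y : Ω, x ≠ y → ∃ g : G, g • a = x ∧ g • b = y) :
    ∑ g : G, (fix Ω g : ℚ) * ((fix Ω g : ℚ) - 1) * h g =
      (Fintype.card Ω : ℚ) * ((Fintype.card Ω : ℚ) - 1) *
        ∑ g ∈ univ.filter (fun g : G => g ∈ pairStab G a b), h g := by
  rw [sum_pairs]
  have hconst : ∀ p ∈ univ.filter (fun p : Ω × Ω => p.1 ≠ p.2),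
      ∑ g ∈ univ.filter (fun g : G => g ∈ pairStab G p.1 p.2), h g =
        ∑ g ∈ univ.filter (fun g : G => g ∈ pairStab G a b), h g := by
    intro p hp
    simp only [mem_filter, mem_univ, true_and] at hp
    obtain ⟨k, hka, hkb⟩ := htwo p.1 p.2 hp
    refine (sum_equiv (MulAut.conj k).toEquiv (fun g => ?_) (fun g _ => (hh k g).symm)).symm
    have hsmul : ∀ x : Ω, (k * g * k⁻¹) • k • x = k • g • x := fun x => by simp [mul_smul]
    simp only [mem_filter, mem_univ, true_and, mem_pairStab, MulEquiv.toEquiv_eq_coe,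
      EquivLike.coe_coe, MulAut.conj_apply]
    rw [← hka, ← hkb, hsmul, hsmul, smul_left_cancel_iff, smul_left_cancel_iff]
  rw [sum_congr rfl hconst, sum_const, nsmul_eq_mul]
  congr 1
  have : (univ.filter fun p : Ω × Ω => p.1 ≠ p.2) = (univ : Finset Ω).offDiag := by
    ext p; simp
  rw [this, offDiag_card, card_univ, Nat.cast_sub (Nat.le_mul_self _), Nat.cast_mul]
  ring

/-- The orbits on ordered pairs, counted by fixed points. -/
theorem sum_fix_sq :
    ∑ g : G, fix Ω g * fix Ω g = Nat.card (Quotient (orbitRel G (Ω × Ω))) * Fintype.card G := by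
  classical
  rw [← sum_fix (G := G) (Ω := Ω × Ω)]
  refine sum_congr rfl fun g _ => ?_
  rw [fix, fix, ← card_product]
  congr 1
  ext p
  simp [Prod.ext_iff]

open scoped Classical in
/-- The number of derangements. -/
noncomputable def derangements (G Ω : Type*) [Group G] [MulAction G Ω] [Fintype G] : ℕ :=
  (univ.filter fun g : G => ∀ x : Ω, g • x ≠ x).card

theorem derangements_eq_natCard :
    derangements G Ω = Nat.card {g : G // ∀ x : Ω, g • x ≠ x} := by
  classical
  rw [Nat.card_eq_fintype_card, Fintype.card_subtype]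
  unfold derangements
  congr 1
  ext g
  simp

open scoped Classical in
/-- `n D = Σ (π - 1)(n - π) + |G| (r - 1)` in the form needed. -/
theorem derangements_eq [IsPretransitive G Ω] [Nonempty Ω] :
    (Fintype.card Ω : ℚ) * derangements G Ω =
      (Fintype.card G : ℚ) * ((Nat.card (Quotient (orbitRel G (Ω × Ω))) : ℚ) - 1) +
        ∑ g ∈ univ.filter (fun g : G => fix Ω g ≠ 0),
          ((fix Ω g : ℚ) - 1) * ((Fintype.card Ω : ℚ) - fix Ω g) := by
  set n : ℚ := (Fintype.card Ω : ℚ)
  have h1 : Nat.card (Quotient (orbitRel G Ω)) = 1 := by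
    haveI : Subsingleton (Quotient (orbitRel G Ω)) := ⟨fun a b => by
      induction a using Quotient.inductionOn with | _ x =>
      induction b using Quotient.inductionOn with | _ y =>
      exact Quotient.sound (mem_orbit_iff.2 (exists_smul_eq G y x))⟩
    exact Nat.card_eq_one_iff_unique.2
      ⟨inferInstance, ⟨Quotient.mk _ (Classical.arbitrary Ω)⟩⟩
  have hs1 : ∑ g : G, (fix Ω g : ℚ) = Fintype.card G := by
    rw [← Nat.cast_sum, sum_fix, h1, one_mul]
  have hs2 : ∑ g : G, (fix Ω g : ℚ) * fix Ω g =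
      (Nat.card (Quotient (orbitRel G (Ω × Ω))) : ℚ) * Fintype.card G := by
    rw [← Nat.cast_mul, ← sum_fix_sq (Ω := Ω), Nat.cast_sum]
    simp
  have htot : ∑ g : G, ((fix Ω g : ℚ) - 1) * (n - fix Ω g) =
      -((Fintype.card G : ℚ) * ((Nat.card (Quotient (orbitRel G (Ω × Ω))) : ℚ) - 1)) := by
    have : ∀ g : G, ((fix Ω g : ℚ) - 1) * (n - fix Ω g) =
        (n + 1) * fix Ω g - (fix Ω g : ℚ) * fix Ω g - n := fun g => by ring
    rw [sum_congr rfl fun g _ => this g, sum_sub_distrib, sum_sub_distrib, ← mul_sum, hs1, hs2,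
      sum_const, card_univ, nsmul_eq_mul]
    ring
  have hsplit := sum_filter_add_sum_filter_not (univ : Finset G) (fun g => fix Ω g ≠ 0)
    (fun g => ((fix Ω g : ℚ) - 1) * (n - fix Ω g))
  have hD : ∑ g ∈ univ.filter (fun g : G => ¬ fix Ω g ≠ 0), ((fix Ω g : ℚ) - 1) * (n - fix Ω g) =
      -(n * derangements G Ω) := by
    rw [sum_congr rfl fun g hg => by
      simp only [mem_filter, not_not] at hg
      rw [hg.2]]
    have hc : (univ.filter fun g : G => ¬ fix Ω g ≠ 0).card = derangements G Ω := by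
      unfold derangements
      congr 1
      ext g
      simp [fix_eq_zero_iff]
    rw [sum_const, nsmul_eq_mul, hc]
    push_cast
    ring
  linarith

/-- Cauchy's inequality for reciprocals. -/
theorem card_sq_le_sum_mul_sum_inv {ι : Type*} (s : Finset ι) (x : ι → ℚ) (hx : ∀ i ∈ s, 0 < x i) :
    (s.card : ℚ) ^ 2 ≤ (∑ i ∈ s, x i) * ∑ i ∈ s, (x i)⁻¹ := by
  rcases s.eq_empty_or_nonempty with rfl | hne
  · simp
  set c : ℚ := (∑ i ∈ s, x i) / s.card with hc
  have hcard : (0 : ℚ) < s.card := by exact_mod_cast hne.card_pos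
  have hsum : 0 < ∑ i ∈ s, x i := sum_pos hx hne
  have hcpos : 0 < c := div_pos hsum hcard
  have hterm : ∀ i ∈ s, 2 / c - x i / c ^ 2 ≤ (x i)⁻¹ := fun i hi => by
    have hxi := hx i hi
    have h1 : 0 ≤ (x i - c) ^ 2 / (c ^ 2 * x i) := by positivity
    have h2 : (x i)⁻¹ - (2 / c - x i / c ^ 2) = (x i - c) ^ 2 / (c ^ 2 * x i) := by
      field_simp
      ring
    linarith
  have := sum_le_sum hterm
  rw [sum_sub_distrib, sum_const, nsmul_eq_mul, ← sum_div] at this
  have hval : (s.card : ℚ) * (2 / c) - (∑ i ∈ s, x i) / c ^ 2 = (s.card : ℚ) ^ 2 / ∑ i ∈ s, x i := by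
    rw [hc]
    field_simp
    ring
  rw [hval, div_le_iff₀ hsum] at this
  linarith [mul_comm (∑ i ∈ s, (x i)⁻¹) (∑ i ∈ s, x i)]

end CfsgLib.DerangeTwo
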