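import Cfsg.Agent.DerangeTwo.Geometry

/-!
# Two-point stabilisers with all orbits of length at most two have order at most two
-/

set_option autoImplicit false

namespace CfsgLib.DerangeTwo

open MulAction Finset

variable {G Ω : Type*} [Group G] [MulAction G Ω] [Fintype G] [Fintype Ω]

/-- A finite set with an involution without fixed elements has even size. -/
theorem even_card_of_involution {ι : Type*} (T : Finset ι) (τ : ∀ x ∈ T, ι)
    (hmem : ∀ x hx, τ x hx ∈ T) (hne : ∀ x hx, τ x hx ≠ x)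
    (hinv : ∀ x hx, τ (τ x hx) (hmem x hx) = x) : Even T.card := by
  have h : ∑ _x ∈ T, (1 : ZMod 2) = 0 :=
    Finset.sum_involution τ (fun _ _ => by decide) (fun x hx _ => hne x hx) hmem hinv
  rw [sum_const, nsmul_eq_mul, mul_one] at h
  exact even_iff_two_dvd.2 ((ZMod.natCast_eq_zero_iff_even.1 h).two_dvd)

theorem card_le_two (h2 : IsTwoTrans G Ω) [FaithfulSMul G Ω] {a b : Ω} (hab : a ≠ b)
    (hall : ∀ c : Ω, Nat.card (orbit (pairStab G a b) c) ≤ 2)
    (hf : (fixSet Ω (pairStab G a b)).card ≤ 3)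
    (hcard : Nat.card G = Fintype.card Ω * (Fintype.card Ω - 1) * Nat.card (pairStab G a b)) :
    Nat.card (pairStab G a b) ≤ 2 := by
  classical
  by_contra hs2
  push Not at hs2
  set s := Nat.card (pairStab G a b) with hsdef
  set n := Fintype.card Ω with hn
  have hfam := fun z => family_of_small h2 hab hall hsdef.symm z
  have hmove : ∀ x y : Ω, x ≠ y → ∃ c, c ≠ x ∧ ¬ pairStab G x y ≤ stabilizer G c := by
    intro x y hxy
    by_contra hc
    push Not at hc
    have hbot : pairStab G x y = ⊥ := (Subgroup.eq_bot_iff_forall _).2 fun k hk =>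
      eq_of_smul_eq_smul (α := Ω) fun c => by
        rw [one_smul]
        by_cases hcx : c = x
        · subst hcx; exact hk.1
        · exact hc c hcx hk
    have := card_pairStab h2 hab hxy
    rw [hbot, Subgroup.card_bot] at this
    omega
  -- the abelian group generated by the pair stabilisers at a point
  have hL : ∀ x : Ω, ∃ L : Subgroup G, (∀ c, c ≠ x → pairStab G x c ≤ L) ∧ L ≤ stabilizer G x ∧
      Nat.card L = 2 * s ∧ (∀ u ∈ L, ∀ v ∈ L, u * v = v * u) := by
    intro x
    obtain ⟨y, hy⟩ : ∃ y, y ≠ x := by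
      by_cases hax : a = x
      · exact ⟨b, fun hb => hab (hax.trans hb.symm)⟩
      · exact ⟨a, hax⟩
    obtain ⟨c, hc, hcS⟩ := hmove x y (Ne.symm hy)
    set A := pairStab G x y
    set B := pairStab G x c
    have hA : A ∈ {A : Subgroup G | ∃ c, c ≠ x ∧ A = pairStab G x c} := ⟨y, hy, rfl⟩
    have hB : B ∈ {A : Subgroup G | ∃ c, c ≠ x ∧ A = pairStab G x c} := ⟨c, hc, rfl⟩
    have hne : A ≠ B := fun e => hcS (e ▸ inf_le_right)
    rcases (hfam x).dichotomy hA hB hne with hcommon | ⟨hle, hcomm, hLc⟩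
    · exfalso
      have hbot : A ⊓ B = ⊥ := (Subgroup.eq_bot_iff_forall _).2 fun k hk =>
        eq_of_smul_eq_smul (α := Ω) fun d => by
          rw [one_smul]
          by_cases hdx : d = x
          · subst hdx; exact hk.1.1
          · exact (hcommon _ ⟨d, hdx, rfl⟩ hk).2
      have := (hfam x).meet A hA B hB hne
      rw [hbot, Subgroup.card_bot] at this
      omega
    · refine ⟨A ⊔ B, fun d hd => hle _ ⟨d, hd, rfl⟩, sup_le inf_le_left inf_le_left, hLc, ?_⟩
      have h := sup_comm_of_comm ((hfam x).comm A hA) ((hfam x).comm B hB) hcomm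
      exact fun u hu v hv => (Subgroup.mem_centralizer_iff.1 (h hv) u hu)
  choose L hLge hLle hLcard hLcomm using hL
  have hLinter : ∀ x y, x ≠ y → L x ⊓ stabilizer G y = pairStab G x y := fun x y hxy =>
    le_antisymm (inf_le_inf_right _ (hLle x)) (le_inf (hLge x y (Ne.symm hxy)) inf_le_right)
  -- the third point fixed by a pair stabiliser
  have hf3 : (fixSet Ω (pairStab G a b)).card = 3 := by
    by_contra hne
    have hLnot : ¬ L a ≤ stabilizer G b := fun hle => by
      have := hLinter a b hab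
      rw [inf_eq_left.2 hle] at this
      have h1 := hLcard a
      rw [this] at h1
      omega
    obtain ⟨k, hk, hkb⟩ := SetLike.not_le_iff_exists.1 hLnot
    have hka : k • a = a := hLle a hk
    have hmem : k • b ∈ fixSet Ω (pairStab G a b) := mem_fixSet.2 fun h hh => by
      rw [mem_stabilizer_iff, ← mul_smul,
        hLcomm a h (hLge a b hab.symm hh) k hk, mul_smul, hh.2]
    have h3 : ({a, b, k • b} : Finset Ω) ⊆ fixSet Ω (pairStab G a b) := by
      intro z hz
      simp only [mem_insert, mem_singleton] at hz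
      rcases hz with rfl | rfl | rfl
      · exact left_mem_fixSet z b
      · exact right_mem_fixSet a z
      · exact hmem
    have hkb' : k • b ≠ b := hkb
    have hka' : k • b ≠ a := fun e => hab (smul_left_cancel k (hka.trans e.symm))
    have := card_le_card h3
    rw [card_eq_three.2 ⟨a, b, k • b, hab, hka'.symm, hkb'.symm, rfl⟩] at this
    omega
  set T := ((univ : Finset Ω).erase a).image (fun c => pairStab G a c) with hT
  have hn2 : n - 1 = 2 * T.card := by
    have h0 : ((univ : Finset Ω).erase a).card = n - 1 := by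
      rw [card_erase_of_mem (mem_univ a), card_univ]
    rw [← h0, card_eq_sum_card_image (fun c => pairStab G a c) ((univ : Finset Ω).erase a), ← hT]
    have hfib : ∀ H ∈ T, (((univ : Finset Ω).erase a).filter fun d => pairStab G a d = H).card = 2 := by
      intro H hH
      obtain ⟨c, hc, rfl⟩ := mem_image.1 hH
      have hca : c ≠ a := (mem_erase.1 hc).1
      have : ((univ : Finset Ω).erase a).filter (fun d => pairStab G a d = pairStab G a c) =
          (fixSet Ω (pairStab G a c)).erase a := by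
        ext d
        simp only [mem_filter, mem_erase, mem_univ, and_true, mem_fixSet]
        constructor
        · rintro ⟨hd, he⟩
          exact ⟨hd, he ▸ inf_le_right⟩
        · rintro ⟨hd, he⟩
          exact ⟨hd, (pairStab_eq h2 hca.symm (Ne.symm hd) inf_le_left he).symm⟩
      rw [this, card_erase_of_mem (left_mem_fixSet a c), card_fixSet h2 hca.symm hab, hf3]
    rw [sum_congr rfl hfib, sum_const, smul_eq_mul, mul_comm]
  set A := pairStab G a b with hAdef
  have hTmem : ∀ H ∈ T, ∃ c, c ≠ a ∧ H = pairStab G a c := fun H hH => by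
    obtain ⟨c, hc, rfl⟩ := mem_image.1 hH
    exact ⟨c, (mem_erase.1 hc).1, rfl⟩
  have hAT : A ∈ T := mem_image.2 ⟨b, mem_erase.2 ⟨hab.symm, mem_univ _⟩, rfl⟩
  -- a third subgroup over each intersection
  have hthird : ∀ B ∈ T.erase A, ∃ C ∈ T.erase A, C ≠ B ∧ A ⊓ B ≤ C := by
    intro B hB
    obtain ⟨hBA, hBT⟩ := mem_erase.1 hB
    obtain ⟨c, hc, rfl⟩ := hTmem B hBT
    have hcb : c ≠ b := fun e => hBA (e ▸ rfl)
    obtain ⟨z, hz, hzc, hzb⟩ : ∃ z ∈ fixSet Ω (pairStab G c b), z ≠ c ∧ z ≠ b := by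
      by_contra hcon
      push Not at hcon
      have hsub : fixSet Ω (pairStab G c b) ⊆ {c, b} := fun z hz => by
        simp only [mem_insert, mem_singleton]
        by_cases hzc : z = c
        · exact Or.inl hzc
        · exact Or.inr (hcon z hz hzc)
      have := card_le_card hsub
      rw [card_fixSet h2 hcb hab, hf3] at this
      have := this.trans Finset.card_le_two
      omega
    have hDle : A ⊓ pairStab G a c ≤ pairStab G c b := fun k hk => ⟨hk.2.2, hk.1.2⟩
    have hza : z ≠ a := by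
      intro e
      rw [e, mem_fixSet] at hz
      have he : pairStab G c b = pairStab G a b := pairStab_eq h2 hcb hab hz inf_le_right
      have hcA : A ≤ stabilizer G c := fun k hk => by
        have hk' : k ∈ pairStab G c b := he.symm ▸ hk
        exact hk'.1
      exact hBA (pairStab_eq h2 hab (Ne.symm hc) inf_le_left hcA).symm
    refine ⟨pairStab G a z, mem_erase.2 ⟨?_, mem_image.2 ⟨z, mem_erase.2 ⟨hza, mem_univ _⟩, rfl⟩⟩, ?_, ?_⟩
    · intro e
      have hzA : A ≤ stabilizer G z := e ▸ inf_le_right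
      have e1 : A = pairStab G b z := pairStab_eq h2 hab (Ne.symm hzb) inf_le_right hzA
      have e2 : pairStab G c b = pairStab G b z :=
        pairStab_eq h2 hcb (Ne.symm hzb) inf_le_right (mem_fixSet.1 hz)
      have hcA : A ≤ stabilizer G c := (e1.trans e2.symm).le.trans inf_le_left
      exact hBA (pairStab_eq h2 hab (Ne.symm hc) inf_le_left hcA).symm
    · intro e
      have hzB : pairStab G a c ≤ stabilizer G z := e ▸ inf_le_right
      have e1 : pairStab G a c = pairStab G c z :=
        pairStab_eq h2 (Ne.symm hc) (Ne.symm hzc) inf_le_right hzB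
      have e2 : pairStab G c b = pairStab G c z :=
        pairStab_eq h2 hcb (Ne.symm hzc) inf_le_left (mem_fixSet.1 hz)
      have hbB : pairStab G a c ≤ stabilizer G b := (e1.trans e2.symm).le.trans inf_le_right
      exact hBA (pairStab_eq h2 (Ne.symm hc) hab inf_le_left hbB)
    · exact le_inf (inf_le_left.trans inf_le_left) (hDle.trans (mem_fixSet.1 hz))
  have hmeetT : ∀ H ∈ T, ∀ K ∈ T, H ≠ K → 2 * Nat.card ↥(H ⊓ K) = s := fun H hH K hK hne => by
    obtain ⟨c, hc, rfl⟩ := hTmem H hH
    obtain ⟨d, hd, rfl⟩ := hTmem K hK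
    exact (hfam a).meet _ ⟨c, hc, rfl⟩ _ ⟨d, hd, rfl⟩ hne
  have hleT : ∀ H ∈ T, H ≤ L a := fun H hH => by
    obtain ⟨c, hc, rfl⟩ := hTmem H hH
    exact hLge a c hc
  have hcardT : ∀ H ∈ T, Nat.card H = s := fun H hH => by
    obtain ⟨c, hc, rfl⟩ := hTmem H hH
    exact (card_pairStab h2 hab (Ne.symm hc)).symm
  have hrest : ∀ B ∈ T, ∀ C ∈ T, A ≠ B → A ≠ C → B ≠ C → A ⊓ B ≤ C →
      (C : Set G) \ ↑(A ⊓ B) = (L a : Set G) \ ((A : Set G) ∪ B) := by
    intro B hB C hC hAB hAC hBC hle
    have hcD := hmeetT A hAT B hB hAB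
    have hCA : A ⊓ B = A ⊓ C := Subgroup.eq_of_le_of_card_ge (le_inf inf_le_left hle)
      (by have := hmeetT A hAT C hC hAC; omega)
    have hCB : A ⊓ B = B ⊓ C := Subgroup.eq_of_le_of_card_ge (le_inf inf_le_right hle)
      (by have := hmeetT B hB C hC hBC; omega)
    refine Set.eq_of_subset_of_ncard_le ?_ ?_ (Set.toFinite _)
    · rintro x ⟨hx, hxD⟩
      refine ⟨hleT C hC hx, ?_⟩
      rintro (hxA | hxB)
      · exact hxD (hCA.ge ⟨hxA, hx⟩)
      · exact hxD (hCB.ge ⟨hxB, hx⟩)
    · have hsub : ((A : Set G) ∪ B) ⊆ L a := Set.union_subset (hleT A hAT) (hleT B hB)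
      have h1 := Set.ncard_union_add_ncard_inter (A : Set G) (B : Set G)
      have h2' : ((A : Set G) ∩ B) = ((A ⊓ B : Subgroup G) : Set G) := rfl
      rw [h2', ← Nat.card_coe_set_eq (A : Set G), ← Nat.card_coe_set_eq (B : Set G),
        ← Nat.card_coe_set_eq ((A ⊓ B : Subgroup G) : Set G)] at h1
      rw [Set.ncard_sdiff hsub, Set.ncard_sdiff (show ((A ⊓ B : Subgroup G) : Set G) ⊆ C from hle),
        ← Nat.card_coe_set_eq (L a : Set G), ← Nat.card_coe_set_eq (C : Set G),
        ← Nat.card_coe_set_eq ((A ⊓ B : Subgroup G) : Set G)]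
      simp only [SetLike.coe_sort_coe] at h1 ⊢
      have := hLcard a
      have := hcardT A hAT
      have := hcardT B hB
      have := hcardT C hC
      omega
  choose τ hτT hτne hτle using hthird
  have heven : Even (T.erase A).card := by
    refine even_card_of_involution _ τ hτT hτne fun B hB => ?_
    obtain ⟨hBA, hBT⟩ := mem_erase.1 hB
    obtain ⟨hCA, hCT⟩ := mem_erase.1 (hτT B hB)
    obtain ⟨hC'A, hC'T⟩ := mem_erase.1 (hτT (τ B hB) (hτT B hB))
    have hD : A ⊓ (τ B hB) = A ⊓ B := (Subgroup.eq_of_le_of_card_ge (le_inf inf_le_left (hτle B hB))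
      (by have := hmeetT A hAT B hBT hBA.symm; have := hmeetT A hAT (τ B hB) hCT hCA.symm; omega)).symm
    have e1 := hrest (τ B hB) hCT _ hC'T hCA.symm hC'A.symm (hτne (τ B hB) (hτT B hB)).symm (hτle (τ B hB) (hτT B hB))
    have e2 := hrest (τ B hB) hCT B hBT hCA.symm hBA.symm (hτne B hB) (hD ▸ inf_le_right)
    apply SetLike.coe_injective
    rw [← Set.sdiff_union_of_subset (show ((A ⊓ (τ B hB) : Subgroup G) : Set G) ⊆ (τ (τ B hB) (hτT B hB) : Set G)
        from hτle (τ B hB) (hτT B hB)), e1, ← e2,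
      Set.sdiff_union_of_subset (show ((A ⊓ (τ B hB) : Subgroup G) : Set G) ⊆ B from hD ▸ (inf_le_right : A ⊓ B ≤ B))]
  -- the stabilisers of the points fixed by an involution
  obtain ⟨c, hc, hcA⟩ := hmove a b hab
  set B := pairStab G a c
  have hAB : A ≠ B := fun e => hcA fun k hk => (e.le hk).2
  have hBT : B ∈ T := mem_image.2 ⟨c, mem_erase.2 ⟨hc, mem_univ _⟩, rfl⟩
  obtain ⟨g, hg, hg1⟩ := (A ⊓ B).bot_or_exists_ne_one.resolve_left fun hb => by
    have := hmeetT A hAT B hBT hAB
    rw [hb, Subgroup.card_bot] at this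
    omega
  set F := {x : Ω | g • x = x}
  have haF : a ∈ F := hg.1.1
  have hbF : b ∈ F := hg.1.2
  have hcF : c ∈ F := hg.2.2
  have hinter : ∀ x y : Ω, x ≠ y → L x ⊓ L y = pairStab G x y := fun x y hxy =>
    le_antisymm (le_inf (inf_le_left.trans (hLle x)) (inf_le_right.trans (hLle y)))
      (le_inf (hLge x y (Ne.symm hxy)) ((le_of_eq (inf_comm _ _)).trans (hLge y x hxy)))
  have hLne : ∀ x y : Ω, x ≠ y → L x ≠ L y := fun x y hxy e => by
    have := hinter x y hxy
    rw [e, inf_idem] at this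
    have h1 := hLcard y
    rw [this, ← card_pairStab h2 hab hxy] at h1
    omega
  have hfamF : IsFamily {H : Subgroup G | ∃ x ∈ F, H = L x} (2 * s) := by
    refine ⟨?_, ?_, ?_⟩
    · rintro H ⟨x, -, rfl⟩; exact hLcard x
    · rintro H ⟨x, -, rfl⟩; exact hLcomm x
    · rintro H ⟨x, -, rfl⟩ K ⟨y, -, rfl⟩ hne
      have hxy : x ≠ y := fun e => hne (e ▸ rfl)
      rw [hinter x y hxy, ← card_pairStab h2 hab hxy]
  rcases hfamF.dichotomy ⟨a, haF, rfl⟩ ⟨b, hbF, rfl⟩ (hLne a b hab) with hcommon | ⟨-, -, h4⟩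
  · refine hcA ((hinter a b hab).ge.trans ((hcommon _ ⟨c, hcF, rfl⟩).trans (hLle c)))
  · have hd := Subgroup.card_subgroup_dvd_card (L a ⊔ L b)
    rw [h4, hcard, show 2 * (2 * s) = 4 * s by ring] at hd
    have hd' : 4 ∣ n * (n - 1) := (Nat.mul_dvd_mul_iff_right (by omega : 0 < s)).1 hd
    obtain ⟨j, hj⟩ := heven
    rw [card_erase_of_mem hAT] at hj
    have hT1 : 1 ≤ T.card := card_pos.2 ⟨A, hAT⟩
    have hnn : n = 4 * j + 3 := by omega
    have : n * (n - 1) = 4 * (4 * j * j + 5 * j + 1) + 2 := by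
      rw [hnn, show 4 * j + 3 - 1 = 4 * j + 2 by omega]
      ring
    omega

end CfsgLib.DerangeTwo
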