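import Cfsg.Agent.DerangeTwo.Geometry

/-!
# Two excluded configurations
-/

set_option autoImplicit false

namespace CfsgLib.DerangeTwo

open MulAction Finset

variable {G Ω : Type*} [Group G] [MulAction G Ω] [Fintype G] [Fintype Ω] [FaithfulSMul G Ω]

theorem IsTwoTrans.preprimitive (h2 : IsTwoTrans G Ω) : IsPreprimitive G Ω :=
  isPreprimitive_of_is_two_pretransitive (is_two_pretransitive_iff.2 fun {a b c d} h h' => h2 a b c d h h')

/-- A two-point stabiliser with one orbit of length three and the others of length at most two. -/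
theorem not_orbit_three (h2 : IsTwoTrans G Ω) (hn : 7 ≤ Fintype.card Ω) {a b c : Ω} (hab : a ≠ b)
    (hc : Nat.card (orbit (pairStab G a b) c) = 3)
    (hrest : ∀ d : Ω, d ∉ orbit (pairStab G a b) c → Nat.card (orbit (pairStab G a b) d) ≤ 2) :
    False := by
  classical
  set S := pairStab G a b
  haveI : Fact (Nat.Prime 3) := ⟨Nat.prime_three⟩
  have h3 : 3 ∣ Nat.card S := by
    refine ⟨Nat.card (stabilizer S c), ?_⟩
    have h := Subgroup.card_mul_index (stabilizer S c)
    rw [index_stabilizer, ← Nat.card_coe_set_eq, hc] at h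
    rw [← h, mul_comm]
  obtain ⟨g, hg⟩ := exists_prime_orderOf_dvd_card' 3 h3
  have hfixg : ∀ d : Ω, d ∉ orbit S c → (g : G) • d = d := by
    intro d hd
    have h1 := hrest d hd
    by_contra hne
    have hne' : g • d ≠ d := hne
    have hdist : g • g • d ≠ g • d := fun e => hne' (smul_left_cancel g e)
    have h2' : g • g • d = d := by
      by_contra hne2
      have hsub : ({d, g • d, g • g • d} : Set Ω) ⊆ orbit S d := by
        rintro z (rfl | rfl | rfl)
        · exact mem_orbit_self z
        · exact ⟨g, rfl⟩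
        · exact ⟨g * g, mul_smul g g d⟩
      have := (Nat.card_mono (Set.toFinite _) hsub).trans h1
      rw [Nat.card_coe_set_eq, Set.ncard_eq_three.2 ⟨d, g • d, g • g • d, hne'.symm, Ne.symm hne2, hdist.symm, rfl⟩] at this
      omega
    have hg3 : g ^ 3 = 1 := by rw [← hg]; exact pow_orderOf_eq_one g
    apply hne'
    calc g • d = g • g • g • d := by rw [h2']
      _ = (g ^ 3) • d := by simp [pow_succ, mul_smul]
      _ = d := by rw [hg3, one_smul]
  let φ : G →* Equiv.Perm Ω := MulAction.toPermHom G Ω
  have hφ : Function.Injective φ := MulAction.toPerm_injective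
  have hord : orderOf (φ g) = 3 := by rw [orderOf_injective φ hφ, Subgroup.orderOf_coe, hg]
  have hsupp : (φ g).support.card ≤ 3 := by
    rw [← hc, Nat.card_coe_set_eq, ← Set.ncard_coe_finset]
    refine Set.ncard_le_ncard (fun d hd => ?_) (Set.toFinite _)
    by_contra hnot
    exact (Equiv.Perm.mem_support.1 hd) (hfixg d hnot)
  have h3c : (φ g).IsThreeCycle := by
    rw [← card_support_eq_three_iff]
    obtain ⟨m, hm⟩ := Equiv.Perm.cycleType_prime_order (σ := φ g) (by rw [hord]; exact Nat.prime_three)
    have hsum := Equiv.Perm.sum_cycleType (φ g)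
    rw [hm, hord, Multiset.sum_replicate, smul_eq_mul] at hsum
    omega
  have hprim := h2.preprimitive
  haveI := hprim
  haveI : IsPreprimitive φ.range Ω :=
    IsPreprimitive.of_surjective (φ := φ.rangeRestrict)
      (f := { toFun := id, map_smul' := fun _ _ => rfl }) Function.surjective_id
  have halt := Equiv.Perm.alternatingGroup_le_of_isPreprimitive_of_isThreeCycle_mem
    (G := φ.range) inferInstance h3c ⟨g, rfl⟩
  -- the orbit of `c` is then too large
  have hcab : c ≠ a ∧ c ≠ b := by
    constructor <;> rintro rfl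
    · have : orbit S c = {c} := Set.eq_singleton_iff_unique_mem.2 ⟨mem_orbit_self c, by
        rintro _ ⟨k, rfl⟩; exact k.2.1⟩
      rw [this] at hc
      simp at hc
    · have : orbit S c = {c} := Set.eq_singleton_iff_unique_mem.2 ⟨mem_orbit_self c, by
        rintro _ ⟨k, rfl⟩; exact k.2.2⟩
      rw [this] at hc
      simp at hc
  have hall : ∀ z : Ω, z ≠ a → z ≠ b → z ∈ orbit S c := by
    intro z hza hzb
    by_cases hzc : z = c
    · rw [hzc]; exact mem_orbit_self c
    obtain ⟨w, -, hw⟩ : ∃ w ∈ (univ : Finset Ω), w ∉ ({a, b, c, z} : Finset Ω) :=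
      exists_mem_notMem_of_card_lt_card (card_le_four.trans_lt (by rw [card_univ]; omega))
    simp only [mem_insert, mem_singleton, not_or] at hw
    obtain ⟨hwa, hwb, hwc, hwz⟩ := hw
    have hcyc : (Equiv.swap c z * Equiv.swap c w).IsThreeCycle :=
      Equiv.Perm.isThreeCycle_swap_mul_swap_same (Ne.symm hzc) (Ne.symm hwc) (Ne.symm hwz)
    obtain ⟨k, hk⟩ := halt hcyc.mem_alternatingGroup
    have hka : k • a = a := by
      show φ k a = a
      rw [hk]
      simp [Equiv.swap_apply_of_ne_of_ne hcab.1.symm (Ne.symm hwa),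
        Equiv.swap_apply_of_ne_of_ne hcab.1.symm (Ne.symm hza)]
    have hkb : k • b = b := by
      show φ k b = b
      rw [hk]
      simp [Equiv.swap_apply_of_ne_of_ne hcab.2.symm (Ne.symm hwb),
        Equiv.swap_apply_of_ne_of_ne hcab.2.symm (Ne.symm hzb)]
    have hkw : k • w = z := by
      show φ k w = z
      rw [hk]
      simp
    have hkc : k • c = w := by
      show φ k c = w
      rw [hk]
      simp [Equiv.swap_apply_of_ne_of_ne hwc hwz]
    refine ⟨⟨k * k, mul_mem (⟨hka, hkb⟩ : k ∈ S) ⟨hka, hkb⟩⟩, ?_⟩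
    show (k * k) • c = z
    rw [mul_smul, hkc, hkw]
  have hle : Fintype.card Ω - 2 ≤ Nat.card (orbit S c) := by
    have hsub : (↑((univ : Finset Ω) \ {a, b}) : Set Ω) ⊆ orbit S c := fun z hz => by
      simp only [Finset.coe_sdiff, Finset.coe_univ, Finset.coe_pair, Set.mem_sdiff, Set.mem_univ,
        Set.mem_insert_iff, Set.mem_singleton_iff, true_and, not_or] at hz
      exact hall z hz.1 hz.2
    have := Set.ncard_le_ncard hsub (Set.toFinite _)
    rw [Set.ncard_coe_finset, card_sdiff_of_subset (subset_univ _), card_univ, card_pair hab] at this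
    rw [Nat.card_coe_set_eq]
    exact this
  omega

/-- There is no two-transitive group of degree 7 and order 84. -/
theorem not_seven (h2 : IsTwoTrans G Ω) (hn : Fintype.card Ω = 7) (hG : Nat.card G = 84) : False := by
  classical
  haveI := h2.preprimitive
  haveI : Fact (Nat.Prime 7) := ⟨by norm_num⟩
  obtain ⟨P⟩ : Nonempty (Sylow 7 G) := inferInstance
  have hP7 : Nat.card (P : Subgroup G) = 7 := by
    obtain ⟨j, hj⟩ := P.2.exists_card_eq
    have h1 := P.dvd_card_of_dvd_card (p := 7) (by rw [hG]; norm_num)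
    have h2' : Nat.card (P : Subgroup G) ∣ 84 := hG ▸ Subgroup.card_subgroup_dvd_card _
    rcases j with _ | _ | j
    · rw [hj] at h1; norm_num at h1
    · simpa using hj
    · rw [hj] at h2'
      have h49 : 7 ^ 2 ∣ 84 := dvd_trans (pow_dvd_pow 7 (by omega)) h2'
      norm_num at h49
  have hindex : (P : Subgroup G).index = 12 := by
    have := Subgroup.card_mul_index (P : Subgroup G)
    rw [hP7, hG] at this
    omega
  have hone : Nat.card (Sylow 7 G) = 1 := by
    have h12 : Nat.card (Sylow 7 G) ∣ 12 := hindex ▸ Sylow.card_dvd_index P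
    have hmod := card_sylow_modEq_one 7 G
    have hle := Nat.le_of_dvd (by norm_num) h12
    unfold Nat.ModEq at hmod
    interval_cases hk : Nat.card (Sylow 7 G) <;> norm_num at *
  haveI : Subsingleton (Sylow 7 G) := (Nat.card_eq_one_iff_unique.1 hone).1
  haveI : (P : Subgroup G).Normal := P.normal_of_subsingleton
  have hPne : (P : Subgroup G) ≠ ⊥ := fun hb => by rw [hb, Subgroup.card_bot] at hP7; omega
  haveI : IsPretransitive (P : Subgroup G) Ω := MinNormal.isPretransitive_of_ne_bot hPne
  obtain ⟨a⟩ : Nonempty Ω := Fintype.card_pos_iff.1 (by omega)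
  haveI : IsCyclic (P : Subgroup G) := isCyclic_of_prime_card hP7
  have hstab : Nat.card (stabilizer G a) = 12 := by
    haveI : IsPretransitive G Ω := inferInstance
    have h := Subgroup.card_mul_index (stabilizer G a)
    rw [index_stabilizer_of_transitive, Nat.card_eq_fintype_card (α := Ω), hn, hG] at h
    omega
  let ψ : stabilizer G a →* MulAut (P : Subgroup G) :=
    (MulAut.conjNormal : G →* MulAut (P : Subgroup G)).comp (stabilizer G a).subtype
  have hψ : Function.Injective ψ := by
    rw [← MonoidHom.ker_eq_bot_iff, Subgroup.eq_bot_iff_forall]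
    intro k hk
    refine Subtype.ext (MinNormal.eq_one_of_fix_of_commute (N := (P : Subgroup G)) (fun m hm => ?_) k.2)
    have h1 := congrArg (fun e : MulAut (P : Subgroup G) => ((e ⟨m, hm⟩ : (P : Subgroup G)) : G)) hk
    simp only [ψ, MonoidHom.comp_apply, Subgroup.coe_subtype, MulAut.conjNormal_apply,
      MulAut.one_apply] at h1
    exact mul_inv_eq_iff_eq_mul.1 h1
  have := Nat.card_le_card_of_injective ψ hψ
  rw [hstab, IsCyclic.card_mulAut, hP7, Nat.totient_prime (by norm_num)] at this
  omega

end CfsgLib.DerangeTwo
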