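import Mathlib

/-!
# Abelian subgroups pairwise meeting in subgroups of index two
-/

set_option autoImplicit false

namespace CfsgLib.DerangeTwo

open Subgroup

variable {G : Type*} [Group G]

/-- A set of abelian subgroups of order `s` in which two members meet in a subgroup of order `s/2`. -/
structure IsFamily (𝒮 : Set (Subgroup G)) (s : ℕ) : Prop where
  card_eq : ∀ A ∈ 𝒮, Nat.card A = s
  comm : ∀ A ∈ 𝒮, ∀ a ∈ A, ∀ b ∈ A, a * b = b * a
  meet : ∀ A ∈ 𝒮, ∀ B ∈ 𝒮, A ≠ B → 2 * Nat.card ↥(A ⊓ B) = s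

variable [Finite G] {𝒮 : Set (Subgroup G)} {s : ℕ} (h : IsFamily 𝒮 s)
include h

theorem IsFamily.eq_of_le_inf {A B : Subgroup G} (hA : A ∈ 𝒮) (hB : B ∈ 𝒮) (hne : A ≠ B)
    {X : Subgroup G} (hX : X ≤ A ⊓ B) (hc : 2 * Nat.card X = s) : X = A ⊓ B :=
  eq_of_le_of_card_ge hX (by have := h.meet A hA B hB hne; omega)

/-- Two different subgroups of index two generate. -/
theorem IsFamily.sup_eq {U : Subgroup G} (hU : U ∈ 𝒮) {X Y : Subgroup G} (hX : X ≤ U) (hY : Y ≤ U)
    (hXc : 2 * Nat.card X = s) (hYX : ¬ Y ≤ X) : X ⊔ Y = U := by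
  have hle : X ⊔ Y ≤ U := sup_le hX hY
  refine eq_of_le_of_card_ge hle ?_
  rw [h.card_eq U hU, ← hXc]
  have hlt : X < X ⊔ Y := lt_of_le_of_ne le_sup_left fun he => hYX (he ▸ le_sup_right)
  have hdvd : Nat.card X ∣ Nat.card ↥(X ⊔ Y) := card_dvd_of_le le_sup_left
  have hne : Nat.card X ≠ Nat.card ↥(X ⊔ Y) := fun he => hlt.ne (eq_of_le_of_card_ge le_sup_left he.ge)
  obtain ⟨c, hc⟩ := hdvd
  rcases c with _ | _ | c
  · have hpos : 0 < Nat.card ↥(X ⊔ Y) := Nat.card_pos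
    omega
  · simp [hc] at hne
  · rw [hc]
    have := Nat.le_mul_of_pos_right (Nat.card X) (show 0 < c + 1 + 1 by omega)
    nlinarith

/-- The members not through `A ∩ B` are the third groups between; all the members lie in `A B`. -/
theorem IsFamily.dichotomy {A B : Subgroup G} (hA : A ∈ 𝒮) (hB : B ∈ 𝒮) (hne : A ≠ B) :
    (∀ U ∈ 𝒮, A ⊓ B ≤ U) ∨
      ((∀ U ∈ 𝒮, U ≤ A ⊔ B) ∧ (∀ a ∈ A, ∀ b ∈ B, a * b = b * a) ∧
        Nat.card ↥(A ⊔ B) = 2 * s) := by
  have hthird : ∀ U ∈ 𝒮, ¬ A ⊓ B ≤ U →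
      (U ⊓ A) ⊔ (U ⊓ B) = U ∧ (A ⊓ B) ⊔ (U ⊓ A) = A ∧ (A ⊓ B) ⊔ (U ⊓ B) = B := by
    intro U hU hnot
    have hUA : U ≠ A := fun e => hnot (e ▸ inf_le_left)
    have hUB : U ≠ B := fun e => hnot (e ▸ inf_le_right)
    have hc1 := h.meet U hU A hA hUA
    have hc2 := h.meet U hU B hB hUB
    have hc3 := h.meet A hA B hB hne
    have hn1 : ¬ U ⊓ A ≤ A ⊓ B := fun hle => hnot (by
      rw [← eq_of_le_of_card_ge hle (by omega)]
      exact inf_le_left)
    have hn2 : ¬ U ⊓ B ≤ A ⊓ B := fun hle => hnot (by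
      rw [← eq_of_le_of_card_ge hle (by omega)]
      exact inf_le_left)
    refine ⟨h.sup_eq hU inf_le_left inf_le_left hc1 fun hle => hn2 ?_,
      h.sup_eq hA inf_le_left inf_le_right hc3 hn1, h.sup_eq hB inf_le_right inf_le_right hc3 hn2⟩
    exact le_inf (hle.trans inf_le_right) inf_le_right
  by_cases hall : ∀ U ∈ 𝒮, A ⊓ B ≤ U
  · exact Or.inl hall
  push Not at hall
  obtain ⟨U, hU, hUn⟩ := hall
  right
  obtain ⟨hUeq, hAeq, hBeq⟩ := hthird U hU hUn
  have hBA : B ≤ centralizer (A : Set G) := by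
    rw [← hBeq, sup_le_iff]
    constructor
    · intro x hx
      exact mem_centralizer_iff.2 fun a ha => h.comm A hA a ha x hx.1
    · intro x hx
      have hle : A ≤ centralizer {x} := by
        rw [← hAeq, sup_le_iff]
        constructor
        · intro y hy
          exact mem_centralizer_singleton_iff.2 (h.comm B hB y hy.2 x hx.2)
        · intro y hy
          exact mem_centralizer_singleton_iff.2 (h.comm U hU y hy.1 x hx.1)
      exact mem_centralizer_iff.2 fun a ha => mem_centralizer_singleton_iff.1 (hle ha)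
  have hcomm : ∀ a ∈ A, ∀ b ∈ B, a * b = b * a := fun a ha b hb =>
    mem_centralizer_iff.1 (hBA hb) a ha
  have hnorm : B ≤ normalizer (A : Set G) := hBA.trans (centralizer_le_normalizer _)
  have hcard : Nat.card ↥(A ⊔ B) = 2 * s := by
    haveI := (normal_subgroupOf_iff_le_normalizer (le_sup_left : A ≤ A ⊔ B)).2
      (sup_le le_normalizer hnorm)
    have h1 : A.relIndex (A ⊔ B) = A.relIndex B := by
      have htop : B.subgroupOf (A ⊔ B) ⊔ A.subgroupOf (A ⊔ B) = ⊤ := by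
        rw [← subgroupOf_sup le_sup_right le_sup_left, subgroupOf_eq_top, sup_comm]
      calc A.relIndex (A ⊔ B) = (A.subgroupOf (A ⊔ B)).relIndex ⊤ := (relIndex_top_right _).symm
        _ = (A.subgroupOf (A ⊔ B)).relIndex (B.subgroupOf (A ⊔ B)) := by
          rw [← htop, relIndex_sup_right]
        _ = A.relIndex B := relIndex_subgroupOf le_sup_right
    have h2 : Nat.card A * A.relIndex (A ⊔ B) = Nat.card ↥(A ⊔ B) := by
      rw [← Nat.card_congr (subgroupOfEquivOfLe (le_sup_left : A ≤ A ⊔ B)).toEquiv]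
      exact card_mul_index _
    have h3 : Nat.card ↥(A ⊓ B) * A.relIndex B = Nat.card B := by
      rw [← inf_relIndex_right A B, ← Nat.card_congr (subgroupOfEquivOfLe (inf_le_right : A ⊓ B ≤ B)).toEquiv]
      exact card_mul_index _
    have h4 := h.meet A hA B hB hne
    rw [h.card_eq B hB] at h3
    have h5 : A.relIndex B = 2 := by
      have hpos : 0 < Nat.card ↥(A ⊓ B) := Nat.card_pos
      exact Nat.eq_of_mul_eq_mul_left hpos (by rw [h3, ← h4, mul_comm])
    rw [← h2, h.card_eq A hA, h1, h5, mul_comm]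
  refine ⟨?_, hcomm, hcard⟩
  have hin : ∀ V ∈ 𝒮, ¬ A ⊓ B ≤ V → V ≤ A ⊔ B := fun V hV hVn => by
    rw [← (hthird V hV hVn).1]
    exact sup_le_sup inf_le_right inf_le_right
  intro V hV
  by_contra hVL
  by_cases hDV : A ⊓ B ≤ V
  swap
  · exact hVL (hin V hV hDV)
  have hUL := hin U hU hUn
  have hc3 := h.meet A hA B hB hne
  have hprop : V ⊓ (A ⊔ B) = A ⊓ B := by
    refine (eq_of_le_of_card_ge (le_inf hDV (inf_le_left.trans le_sup_left)) ?_).symm
    have hdvd : Nat.card ↥(V ⊓ (A ⊔ B)) ∣ s := h.card_eq V hV ▸ card_dvd_of_le inf_le_left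
    have hne' : Nat.card ↥(V ⊓ (A ⊔ B)) ≠ s := fun he => hVL
      ((eq_of_le_of_card_ge inf_le_left (by rw [he, h.card_eq V hV])).ge.trans inf_le_right)
    obtain ⟨c, hc⟩ := hdvd
    rcases c with _ | _ | c
    · have := h.card_eq V hV
      have hpos : 0 < Nat.card V := Nat.card_pos
      omega
    · omega
    · nlinarith
  have hVU : V ≠ U := fun e => hVL (e ▸ hUL)
  have hle : V ⊓ U ≤ A ⊓ B := hprop ▸ inf_le_inf_left V hUL
  refine hUn ?_
  rw [← eq_of_le_of_card_ge hle (by have := h.meet V hV U hU hVU; omega)]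
  exact inf_le_right

omit [Finite G] h in
theorem sup_comm_of_comm {A B : Subgroup G} (hA : ∀ a ∈ A, ∀ b ∈ A, a * b = b * a)
    (hB : ∀ a ∈ B, ∀ b ∈ B, a * b = b * a) (hAB : ∀ a ∈ A, ∀ b ∈ B, a * b = b * a) :
    A ⊔ B ≤ centralizer ((A ⊔ B : Subgroup G) : Set G) := by
  have h1 : A ⊔ B ≤ centralizer (A : Set G) := sup_le
    (fun x hx => mem_centralizer_iff.2 fun a ha => hA a ha x hx)
    (fun x hx => mem_centralizer_iff.2 fun a ha => hAB a ha x hx)
  have h2 : A ⊔ B ≤ centralizer (B : Set G) := sup_le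
    (fun x hx => mem_centralizer_iff.2 fun b hb => (hAB x hx b hb).symm)
    (fun x hx => mem_centralizer_iff.2 fun b hb => hB b hb x hx)
  have h3 : A ⊔ B ≤ centralizer ((A ⊔ B : Subgroup G) : Set G) := by
    intro x hx
    have hle : A ⊔ B ≤ centralizer {x} := sup_le
      (fun a ha => mem_centralizer_singleton_iff.2 (mem_centralizer_iff.1 (h1 hx) a ha))
      (fun b hb => mem_centralizer_singleton_iff.2 (mem_centralizer_iff.1 (h2 hx) b hb))
    exact mem_centralizer_iff.2 fun y hy => mem_centralizer_singleton_iff.1 (hle hy)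
  exact h3

end CfsgLib.DerangeTwo
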