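import Cfsg.Agent.DerangeTwo.Counting
import Cfsg.Agent.DerangeTwo.Family
import Cfsg.Agent.MinNormal.Action

/-!
# Fixed point sets of two-point stabilisers
-/

set_option autoImplicit false

namespace CfsgLib.DerangeTwo

open MulAction Finset

variable {G Ω : Type*} [Group G] [MulAction G Ω] [Fintype G] [Fintype Ω]

/-- `G` moves every ordered pair of distinct points to every other. -/
def IsTwoTrans (G Ω : Type*) [Group G] [MulAction G Ω] : Prop :=
  ∀ a b x y : Ω, a ≠ b → x ≠ y → ∃ g : G, g • a = x ∧ g • b = y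

variable (h2 : IsTwoTrans G Ω)
include h2

theorem map_pairStab (g : G) (x y : Ω) :
    (pairStab G x y).map (MulAut.conj g).toMonoidHom = pairStab G (g • x) (g • y) := by
  show _ = stabilizer G (g • x) ⊓ stabilizer G (g • y)
  rw [Subgroup.map_inf _ _ _ (MulAut.conj g).injective, stabilizer_smul_eq_stabilizer_map_conj,
    stabilizer_smul_eq_stabilizer_map_conj]

theorem card_pairStab {a b x y : Ω} (hab : a ≠ b) (hxy : x ≠ y) :
    Nat.card (pairStab G a b) = Nat.card (pairStab G x y) := by
  obtain ⟨g, rfl, rfl⟩ := h2 a b x y hab hxy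
  rw [← map_pairStab h2 g a b]
  exact (Subgroup.card_map_of_injective (f := (MulAut.conj g).toMonoidHom) (K := pairStab G a b)
    (MulAut.conj g).injective).symm

theorem pairStab_eq {x y z w : Ω} (hxy : x ≠ y) (hzw : z ≠ w) (hz : pairStab G x y ≤ stabilizer G z)
    (hw : pairStab G x y ≤ stabilizer G w) : pairStab G x y = pairStab G z w :=
  Subgroup.eq_of_le_of_card_ge (le_inf hz hw) (card_pairStab h2 hxy hzw).ge

omit h2 in
open scoped Classical in
/-- The fixed points of a subgroup. -/
noncomputable def fixSet (Ω : Type*) [MulAction G Ω] [Fintype Ω] (H : Subgroup G) : Finset Ω :=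
  univ.filter fun x : Ω => H ≤ stabilizer G x

omit h2 in
theorem mem_fixSet {H : Subgroup G} {x : Ω} : x ∈ fixSet Ω H ↔ H ≤ stabilizer G x := by
  classical
  simp [fixSet]

theorem card_fixSet {a b x y : Ω} (hab : a ≠ b) (hxy : x ≠ y) :
    (fixSet Ω (pairStab G a b)).card = (fixSet Ω (pairStab G x y)).card := by
  obtain ⟨g, rfl, rfl⟩ := h2 a b x y hab hxy
  refine card_equiv (MulAction.toPerm g) fun z => ?_
  simp only [mem_fixSet, MulAction.toPerm_apply]
  rw [← map_pairStab h2 g a b, stabilizer_smul_eq_stabilizer_map_conj]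
  exact (Subgroup.map_le_map_iff_of_injective (f := (MulAut.conj g).toMonoidHom) (MulAut.conj g).injective).symm

omit h2 in
theorem left_mem_fixSet (a b : Ω) : a ∈ fixSet Ω (pairStab G a b) := mem_fixSet.2 inf_le_left

omit h2 in
theorem right_mem_fixSet (a b : Ω) : b ∈ fixSet Ω (pairStab G a b) := mem_fixSet.2 inf_le_right

/-- The pairs through a point fall into classes of `f - 1`. -/
theorem dvd_card_sub_one {a b : Ω} (hab : a ≠ b) :
    ((fixSet Ω (pairStab G a b)).card - 1) ∣ (Fintype.card Ω - 1) := by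
  classical
  set S := (univ : Finset Ω).erase a with hS
  have hcard : S.card = Fintype.card Ω - 1 := by rw [hS, card_erase_of_mem (mem_univ a), card_univ]
  rw [← hcard, card_eq_sum_card_image (fun c => pairStab G a c) S]
  refine Finset.dvd_sum fun H hH => ?_
  obtain ⟨c, hc, rfl⟩ := mem_image.1 hH
  have hca : c ≠ a := (mem_erase.1 hc).1
  have : S.filter (fun d => pairStab G a d = pairStab G a c) = (fixSet Ω (pairStab G a c)).erase a := by
    ext d
    simp only [hS, mem_filter, mem_erase, mem_univ, and_true, mem_fixSet]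
    constructor
    · rintro ⟨hd, he⟩
      exact ⟨hd, he ▸ inf_le_right⟩
    · rintro ⟨hd, he⟩
      exact ⟨hd, (pairStab_eq h2 hca.symm (Ne.symm hd) inf_le_left he).symm⟩
  rw [this, card_erase_of_mem (left_mem_fixSet a c), card_fixSet h2 hca.symm hab]

/-- An element moving something fixes at most `(n - 1)/(f - 1)` points. -/
theorem fix_mul_le {a b : Ω} (hab : a ≠ b) {g : G} {x : Ω} (hx : g • x ≠ x) :
    fix Ω g * ((fixSet Ω (pairStab G a b)).card - 1) ≤ Fintype.card Ω - 1 := by
  classical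
  set f := (fixSet Ω (pairStab G a b)).card
  set F := univ.filter fun y : Ω => g • y = y with hF
  have hxy : ∀ y ∈ F, x ≠ y := fun y hy e => hx (e ▸ (mem_filter.1 hy).2)
  have hdisj : (F : Set Ω).PairwiseDisjoint fun y => (fixSet Ω (pairStab G x y)).erase x := by
    intro y hy y' hy' hne
    show Disjoint ((fixSet Ω (pairStab G x y)).erase x) ((fixSet Ω (pairStab G x y')).erase x)
    rw [Finset.disjoint_left]
    intro z hz hz'
    simp only [mem_erase, mem_fixSet] at hz hz'
    rw [mem_coe] at hy hy'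
    have e1 := pairStab_eq h2 (hxy y hy) (Ne.symm hz.1) inf_le_left hz.2
    have e2 := pairStab_eq h2 (hxy y' hy') (Ne.symm hz'.1) inf_le_left hz'.2
    have e3 : pairStab G x y = pairStab G y y' :=
      pairStab_eq h2 (hxy y hy) hne inf_le_right ((e1.trans e2.symm).le.trans inf_le_right)
    have hg : g ∈ pairStab G y y' := ⟨(mem_filter.1 hy).2, (mem_filter.1 hy').2⟩
    exact hx ((e3.symm ▸ hg : g ∈ pairStab G x y)).1
  have hsub : F.biUnion (fun y => (fixSet Ω (pairStab G x y)).erase x) ⊆ univ.erase x := by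
    intro z hz
    simp only [mem_biUnion, mem_erase] at hz
    obtain ⟨_, _, hz, _⟩ := hz
    simp [hz]
  have hle := card_le_card hsub
  rw [card_biUnion hdisj, card_erase_of_mem (mem_univ x), card_univ] at hle
  have hsum : ∀ y ∈ F, ((fixSet Ω (pairStab G x y)).erase x).card = f - 1 := fun y hy => by
    rw [card_erase_of_mem (left_mem_fixSet x y), card_fixSet h2 (hxy y hy) hab]
  rw [sum_congr rfl hsum, sum_const, smul_eq_mul] at hle
  exact hle

theorem family_of_small {a b : Ω} (hab : a ≠ b)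
    (hall : ∀ c : Ω, Nat.card (orbit (pairStab G a b) c) ≤ 2) [FaithfulSMul G Ω] {s : ℕ}
    (hs : Nat.card (pairStab G a b) = s) (z : Ω) :
    IsFamily {A : Subgroup G | ∃ c, c ≠ z ∧ A = pairStab G z c} s := by
  have hall' : ∀ x y : Ω, x ≠ y → ∀ c : Ω, Nat.card (orbit (pairStab G x y) c) ≤ 2 := by
    intro x y hxy c
    obtain ⟨g, rfl, rfl⟩ := h2 a b x y hab hxy
    refine le_trans ?_ (hall (g⁻¹ • c))
    refine Nat.card_le_card_of_injective
      (fun p : orbit (pairStab G (g • a) (g • b)) c => (⟨g⁻¹ • (p : Ω), ?_⟩ :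
        orbit (pairStab G a b) (g⁻¹ • c)))
      (fun p q hpq => Subtype.ext (smul_left_cancel g⁻¹ (congrArg Subtype.val hpq)))
    obtain ⟨k, hk⟩ := p.2
    have hk' : (k : G) • c = (p : Ω) := hk
    have hmem : (k : G) ∈ (pairStab G a b).map (MulAut.conj g).toMonoidHom := by
      rw [map_pairStab h2]; exact k.2
    obtain ⟨k0, hk0, hk0'⟩ := hmem
    refine ⟨⟨k0, hk0⟩, ?_⟩
    show k0 • g⁻¹ • c = g⁻¹ • (p : Ω)
    rw [← hk', ← hk0']
    simp [mul_smul]
  have hsq : ∀ x y : Ω, x ≠ y → ∀ k ∈ pairStab G x y, k * k = 1 := by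
    intro x y hxy k hk
    refine eq_of_smul_eq_smul (α := Ω) fun c => ?_
    rw [one_smul, mul_smul]
    by_contra hne
    have h1 : k • c ≠ c := fun e => hne (by rw [e, e])
    have h3 : k • k • c ≠ k • c := fun e => h1 (smul_left_cancel k e)
    have hmem : ∀ z : Ω, (∃ j : pairStab G x y, (j : G) • c = z) → z ∈ orbit (pairStab G x y) c :=
      fun z ⟨j, hj⟩ => ⟨j, hj⟩
    have hsub : ({c, k • c, k • k • c} : Set Ω) ⊆ orbit (pairStab G x y) c := by
      rintro z (rfl | rfl | rfl)
      · exact mem_orbit_self z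
      · exact ⟨⟨k, hk⟩, rfl⟩
      · exact ⟨⟨k * k, mul_mem hk hk⟩, mul_smul k k c⟩
    have := (Nat.card_mono (Set.toFinite _) hsub).trans (hall' x y hxy c)
    rw [Nat.card_coe_set_eq, Set.ncard_eq_three.2 ⟨c, k • c, k • k • c, Ne.symm h1, Ne.symm hne, Ne.symm h3, rfl⟩] at this
    omega
  refine ⟨?_, ?_, ?_⟩
  · rintro A ⟨c, hc, rfl⟩
    rw [← card_pairStab h2 hab (Ne.symm hc), hs]
  · rintro A ⟨c, hc, rfl⟩ u hu v hv
    have hu2 := hsq z c (Ne.symm hc) u hu
    have hv2 := hsq z c (Ne.symm hc) v hv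
    have huv := hsq z c (Ne.symm hc) (u * v) (mul_mem hu hv)
    calc u * v = u * v * (u * v * (u * v))⁻¹ := by rw [huv, inv_one, mul_one]
      _ = (v⁻¹) * u⁻¹ := by group
      _ = v * u := by rw [inv_eq_of_mul_eq_one_right hu2, inv_eq_of_mul_eq_one_right hv2]
  · rintro A ⟨c, hc, rfl⟩ B ⟨d, hd, rfl⟩ hne
    have he : pairStab G z c ⊓ pairStab G z d = pairStab G z c ⊓ stabilizer G d := by
      ext k; simp only [Subgroup.mem_inf]; tauto
    have hd2 : ¬ pairStab G z c ≤ stabilizer G d := fun hle =>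
      hne (pairStab_eq h2 (Ne.symm hc) (Ne.symm hd) inf_le_left hle)
    have horb := hall' z c (Ne.symm hc) d
    have hmul : (stabilizer (pairStab G z c) d).index * Nat.card (stabilizer (pairStab G z c) d) =
        Nat.card (pairStab G z c) := by rw [mul_comm]; exact Subgroup.card_mul_index _
    rw [index_stabilizer, ← Nat.card_coe_set_eq] at hmul
    have hst : Nat.card (stabilizer (pairStab G z c) d) =
        Nat.card ↥(pairStab G z c ⊓ stabilizer G d) := by
      rw [show stabilizer (pairStab G z c) d = (stabilizer G d).subgroupOf (pairStab G z c) from rfl,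
        ← Subgroup.inf_subgroupOf_left]
      exact Nat.card_congr (Subgroup.subgroupOfEquivOfLe inf_le_left).toEquiv
    have h1 : Nat.card (orbit (pairStab G z c) d) ≠ 1 := fun h1 => hd2 (by
      rw [h1, one_mul, hst] at hmul
      exact (Subgroup.eq_of_le_of_card_ge inf_le_left hmul.ge).ge.trans inf_le_right)
    have h0 : 0 < Nat.card (orbit (pairStab G z c) d) :=
      Nat.card_pos_iff.2 ⟨⟨⟨d, mem_orbit_self d⟩⟩, inferInstance⟩
    rw [show Nat.card (orbit (pairStab G z c) d) = 2 by omega, hst,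
      ← card_pairStab h2 hab (Ne.symm hc), hs] at hmul
    rw [he, hmul]

end CfsgLib.DerangeTwo
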