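import Cfsg.Agent.DerangeTwo.Slack
import Cfsg.Agent.DerangeTwo.Elementary
import Cfsg.Agent.DerangeTwo.Exceptional

/-!
# At least `2|G|/n` derangements unless the group is sharply two-transitive
-/

set_option autoImplicit false

namespace CfsgLib.DerangeTwo

open MulAction Finset

variable {G Ω : Type*} [Group G] [MulAction G Ω] [Fintype G] [Fintype Ω]

open scoped Classical in
theorem sum_stab_fix (S : Subgroup G) :
    ∑ g ∈ univ.filter (fun g : G => g ∈ S), fix Ω g = Nat.card (Quotient (orbitRel S Ω)) * Nat.card S := by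
  rw [Nat.card_eq_fintype_card (α := S), ← sum_fix (G := S) (Ω := Ω),
    sum_subtype (univ.filter fun g : G => g ∈ S) (p := fun g => g ∈ S) (fun g => by simp)]
  rfl

open scoped Classical in
theorem card_group (h2 : IsTwoTrans G Ω) {a b : Ω} (hab : a ≠ b) :
    Nat.card G = Fintype.card Ω * (Fintype.card Ω - 1) * Nat.card (pairStab G a b) := by
  have hstab : stabilizer G (a, b) = pairStab G a b := by
    ext g
    simp [mem_pairStab, mem_stabilizer_iff, Prod.ext_iff]
  have horb : orbit G (a, b) = ↑((univ : Finset Ω).offDiag) := by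
    ext p
    simp only [coe_offDiag, Set.mem_offDiag, coe_univ, Set.mem_univ, true_and]
    constructor
    · rintro ⟨g, rfl⟩ he
      exact hab (smul_left_cancel g he)
    · intro hp
      obtain ⟨g, hg1, hg2⟩ := h2 a b p.1 p.2 hab hp
      exact ⟨g, Prod.ext hg1 hg2⟩
  have h := Subgroup.card_mul_index (stabilizer G (a, b))
  rw [index_stabilizer, horb, Set.ncard_coe_finset, offDiag_card, card_univ, hstab] at h
  rw [← h, Nat.mul_sub_one, mul_comm]

open scoped Classical in
/-- The exact formula for a two-transitive group. -/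
theorem derangements_two (h2 : IsTwoTrans G Ω) [IsPretransitive G Ω] [Nonempty Ω] {a b : Ω} (hab : a ≠ b) :
    (Fintype.card Ω : ℚ) * derangements G Ω = 2 * (Fintype.card G : ℚ) +
      (Fintype.card Ω : ℚ) * ((Fintype.card Ω : ℚ) - 1) *
        ∑ g ∈ univ.filter (fun g : G => g ∈ pairStab G a b), ((Fintype.card Ω : ℚ) / fix Ω g - 2) := by
  have htwo : ∀ x y : Ω, x ≠ y → ∃ g : G, g • a = x ∧ g • b = y := fun x y hxy => h2 a b x y hab hxy
  have h1n : 1 ≤ Fintype.card Ω := Fintype.card_pos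
  have hG : (Fintype.card G : ℚ) = (Fintype.card Ω : ℚ) * ((Fintype.card Ω : ℚ) - 1) *
      ((univ.filter fun g : G => g ∈ pairStab G a b).card : ℚ) := by
    rw [← Fintype.card_subtype, ← Nat.card_eq_fintype_card (α := G), card_group h2 hab,
      Nat.cast_mul, Nat.cast_mul, Nat.cast_sub h1n, Nat.card_eq_fintype_card]
    norm_num
  have hp1 : ∑ g : G, (fix Ω g : ℚ) * ((fix Ω g : ℚ) - 1) = Fintype.card G := by
    have := sum_pairs_of_conj (fun _ : G => (1 : ℚ)) (fun _ _ => rfl) a b hab htwo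
    simp only [mul_one, sum_const, nsmul_eq_mul] at this
    rw [this, hG]
  have hrank : ((Nat.card (Quotient (orbitRel G (Ω × Ω))) : ℚ) - 1) * Fintype.card G = Fintype.card G := by
    have hs1 : ∑ g : G, fix Ω g = Fintype.card G := by
      have h1 : Nat.card (Quotient (orbitRel G Ω)) = 1 := by
        haveI : Subsingleton (Quotient (orbitRel G Ω)) := ⟨fun x y => by
          induction x using Quotient.inductionOn with | _ x =>
          induction y using Quotient.inductionOn with | _ y =>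
          exact Quotient.sound (mem_orbit_iff.2 (exists_smul_eq G y x))⟩
        exact Nat.card_eq_one_iff_unique.2
          ⟨inferInstance, ⟨Quotient.mk _ (Classical.arbitrary Ω)⟩⟩
      rw [sum_fix, h1, one_mul]
    have h := sum_fix_sq (G := G) (Ω := Ω)
    have hq : ∑ g : G, (fix Ω g : ℚ) * ((fix Ω g : ℚ) - 1) =
        ((∑ g : G, fix Ω g * fix Ω g : ℕ) : ℚ) - ((∑ g : G, fix Ω g : ℕ) : ℚ) := by
      push_cast
      rw [← sum_sub_distrib]
      exact sum_congr rfl fun g _ => by ring
    rw [h, hs1, hp1] at hq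
    push_cast at hq
    linarith
  rw [derangements_eq, mul_comm (Fintype.card G : ℚ), hrank]
  rw [← sum_pairs_of_conj (fun g : G => (Fintype.card Ω : ℚ) / fix Ω g - 2)
    (fun k g => by rw [fix_conj]) a b hab htwo]
  have hsplit : ∑ g ∈ univ.filter (fun g : G => fix Ω g ≠ 0),
      ((fix Ω g : ℚ) - 1) * ((Fintype.card Ω : ℚ) - fix Ω g) =
      ∑ g : G, ((fix Ω g : ℚ) * ((fix Ω g : ℚ) - 1) * ((Fintype.card Ω : ℚ) / fix Ω g - 2) +
        (fix Ω g : ℚ) * ((fix Ω g : ℚ) - 1)) := by
    rw [sum_filter]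
    refine sum_congr rfl fun g _ => ?_
    by_cases h0 : fix Ω g = 0
    · simp [h0]
    · rw [if_pos h0]
      have : (fix Ω g : ℚ) ≠ 0 := by exact_mod_cast h0
      field_simp
      ring
  rw [hsplit, sum_add_distrib, hp1]
  ring

open scoped Classical in
theorem stab_sum_nonneg [FaithfulSMul G Ω] (h2 : IsTwoTrans G Ω) (hn : 7 ≤ Fintype.card Ω) {a b : Ω}
    (hab : a ≠ b) (hs : 2 ≤ Nat.card (pairStab G a b)) :
    0 ≤ ∑ g ∈ univ.filter (fun g : G => g ∈ pairStab G a b), ((Fintype.card Ω : ℚ) / fix Ω g - 2) := by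
  set S := pairStab G a b with hSdef
  set T := univ.filter fun g : G => g ∈ S with hT
  set n := Fintype.card Ω with hnn
  set s := Nat.card S with hsdef
  set o := Nat.card (Quotient (orbitRel S Ω)) with hodef
  have hTcard : T.card = s := by rw [hT, hsdef, Nat.card_eq_fintype_card, Fintype.card_subtype]
  have h2T : ∀ g ∈ T, 2 ≤ fix Ω g := fun g hg => by
    have hg' : g • a = a ∧ g • b = b := (mem_filter.1 hg).2
    rw [fix]
    refine le_trans (le_of_eq (card_pair hab).symm) (card_le_card fun x hx => ?_)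
    simp only [mem_insert, mem_singleton] at hx
    rcases hx with rfl | rfl <;> simp [hg'.1, hg'.2]
  have hpos : ∀ g ∈ T, (0 : ℚ) < fix Ω g := fun g hg => by
    have := h2T g hg
    exact_mod_cast (by omega : 0 < fix Ω g)
  have hsum : ∑ g ∈ T, (fix Ω g : ℚ) = o * s := by
    rw [← Nat.cast_sum, hT, sum_stab_fix, Nat.cast_mul]
  have hs0 : (0 : ℚ) < s := by exact_mod_cast (by omega : 0 < s)
  have hX : ∑ g ∈ T, ((n : ℚ) / fix Ω g - 2) = n * ∑ g ∈ T, (fix Ω g : ℚ)⁻¹ - 2 * s := by
    rw [sum_sub_distrib, sum_const, hTcard, nsmul_eq_mul, mul_sum]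
    simp only [div_eq_mul_inv]
    ring
  rw [hX]
  by_cases hmu : 2 * o ≤ n
  · have hC := card_sq_le_sum_mul_sum_inv T (fun g => (fix Ω g : ℚ)) hpos
    rw [hTcard, hsum] at hC
    have hX0 : 0 ≤ ∑ g ∈ T, (fix Ω g : ℚ)⁻¹ := sum_nonneg fun g hg => (inv_pos.2 (hpos g hg)).le
    have hmu' : (2 : ℚ) * o ≤ n := by exact_mod_cast hmu
    have h3 : 2 * (s : ℚ) * s ≤ n * s * ∑ g ∈ T, (fix Ω g : ℚ)⁻¹ := by
      nlinarith [mul_nonneg (sub_nonneg.2 hmu') (mul_nonneg hs0.le hX0)]
    nlinarith
  push Not at hmu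
  set f := (fixSet Ω S).card with hfdef
  have hf2 : 2 ≤ f := by
    rw [hfdef, ← card_pair hab]
    refine card_le_card fun x hx => ?_
    simp only [mem_insert, mem_singleton] at hx
    rcases hx with rfl | rfl
    · exact left_mem_fixSet x b
    · exact right_mem_fixSet a x
  have hone : (1 : G) ∈ T := by simp [hT, Subgroup.one_mem]
  have hmove : ∀ g ∈ T.erase 1, fix Ω g * (f - 1) ≤ n - 1 := fun g hg => by
    obtain ⟨x, hx⟩ : ∃ x : Ω, g • x ≠ x := by
      by_contra hc
      push Not at hc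
      exact (mem_erase.1 hg).1 (eq_of_smul_eq_smul (α := Ω) fun x => by rw [hc, one_smul])
    exact fix_mul_le h2 hab hx
  have hsplit : ∑ g ∈ T, (fix Ω g : ℚ)⁻¹ = (n : ℚ)⁻¹ + ∑ g ∈ T.erase 1, (fix Ω g : ℚ)⁻¹ := by
    rw [← add_sum_erase _ _ hone, fix_one]
  have hn0 : (0 : ℚ) < n := by exact_mod_cast (by omega : 0 < n)
  have hers : ((T.erase 1).card : ℚ) = (s : ℚ) - 1 := by
    rw [card_erase_of_mem hone, hTcard, Nat.cast_sub (by omega)]
    norm_num
  rw [hsplit, mul_add, mul_inv_cancel₀ hn0.ne', mul_sum]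
  -- all elements fixing at most a third of the points
  have hthird : (∀ g ∈ T.erase 1, 3 * fix Ω g ≤ n) →
      0 ≤ 1 + ∑ g ∈ T.erase 1, (n : ℚ) * (fix Ω g : ℚ)⁻¹ - 2 * (s : ℚ) := by
    intro h3
    have hterm : ∀ g ∈ T.erase 1, (3 : ℚ) ≤ (n : ℚ) * (fix Ω g : ℚ)⁻¹ := fun g hg => by
      rw [← div_eq_mul_inv, le_div_iff₀ (hpos g (mem_of_mem_erase hg))]
      exact_mod_cast h3 g hg
    have := sum_le_sum hterm
    rw [sum_const, nsmul_eq_mul, hers] at this
    have hs2 : (2 : ℚ) ≤ s := by exact_mod_cast hs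
    linarith
  by_cases hf4 : 4 ≤ f
  · refine hthird fun g hg => ?_
    have := hmove g hg
    calc 3 * fix Ω g ≤ fix Ω g * (f - 1) := by rw [mul_comm 3]; exact Nat.mul_le_mul_left _ (by omega)
      _ ≤ n := by omega
  push Not at hf4
  obtain ⟨σ, hσ, hσ0, hσ1⟩ := card_add_fixSet (Ω := Ω) S
  rw [← hnn, ← hodef, ← hfdef] at hσ
  have hdvd := dvd_card_sub_one h2 hab
  rw [← hfdef, ← hnn] at hdvd
  have hcardG := card_group h2 hab
  rw [← hnn, ← hsdef] at hcardG
  by_cases hσz : σ = 0
  · have hs2 : s = 2 := le_antisymm (card_le_two h2 hab (hσ0 hσz) (show (fixSet Ω S).card ≤ 3 by omega) hcardG) hs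
    have hn7 : f = 3 → 9 ≤ n := fun hf3 => by
      rw [hf3] at hdvd
      by_contra hlt
      push Not at hlt
      have hn7 : n = 7 := by omega
      exact not_seven h2 hn7 (by rw [hcardG, hn7, hs2])
    refine hthird fun g hg => ?_
    obtain ⟨hg1, hgT⟩ := mem_erase.1 hg
    have hgS : g ∈ S := (mem_filter.1 hgT).2
    have hzp : Subgroup.zpowers g = S := Subgroup.eq_of_le_of_card_ge (Subgroup.zpowers_le.2 hgS) (by
      rw [← hsdef, hs2, Nat.card_zpowers]
      have h1 : orderOf g ≠ 1 := fun h => hg1 (orderOf_eq_one_iff.1 h)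
      have h0 := orderOf_pos g
      omega)
    have hfix : fix Ω g = f := by
      rw [fix, hfdef]
      congr 1
      ext x
      simp only [mem_filter, mem_univ, true_and, mem_fixSet]
      constructor
      · intro hx
        rw [← hzp, Subgroup.zpowers_le]
        exact hx
      · exact fun hx => hx hgS
    rw [hfix]
    rcases (show f = 2 ∨ f = 3 by omega) with hf | hf
    · omega
    · have := hn7 hf; omega
  rcases (show f = 2 ∨ f = 3 by omega) with hf | hf
  · exfalso
    obtain ⟨c, hc, hrest⟩ := hσ1 (by omega)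
    exact not_orbit_three h2 hn hab hc hrest
  · rw [hf] at hdvd
    have hodd : n % 2 = 1 := by omega
    have ho : 2 * o = n + 1 := by omega
    have hle : ∀ g ∈ T.erase 1, 2 * fix Ω g + 1 ≤ n := fun g hg => by
      have := hmove g hg
      rw [hf] at this
      omega
    have hN : ((n : ℚ) + ∑ g ∈ T.erase 1, (fix Ω g : ℚ)) = o * s := by
      rw [← hsum, ← add_sum_erase _ _ hone, fix_one]
    have hoq : (2 : ℚ) * o = n + 1 := by exact_mod_cast ho
    have hb : ∑ g ∈ T.erase 1, (2 * (fix Ω g : ℚ) + 1) ≤ ((s : ℚ) - 1) * n := by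
      have := sum_le_sum (s := T.erase 1) (f := fun g => 2 * (fix Ω g : ℚ) + 1) (g := fun _ => (n : ℚ))
        fun g hg => by exact_mod_cast hle g hg
      rw [sum_const, nsmul_eq_mul, hers] at this
      exact this
    rw [sum_add_distrib, ← mul_sum, sum_const, nsmul_eq_mul, hers, mul_one] at hb
    have hsmall : 2 * (s : ℚ) ≤ n + 1 := by nlinarith
    have hC := card_sq_le_sum_mul_sum_inv (T.erase 1) (fun g => (fix Ω g : ℚ))
      fun g hg => hpos g (mem_of_mem_erase hg)
    rw [hers] at hC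
    rw [← mul_sum]
    set P := ∑ g ∈ T.erase 1, (fix Ω g : ℚ)
    set X := ∑ g ∈ T.erase 1, (fix Ω g : ℚ)⁻¹
    have hPpos : 0 < P := sum_pos (fun g hg => hpos g (mem_of_mem_erase hg))
      (card_pos.1 (by rw [card_erase_of_mem hone, hTcard]; omega))
    have hkey : P * (2 * (s : ℚ) - 1) ≤ (n : ℚ) * ((s : ℚ) - 1) ^ 2 := by
      nlinarith [mul_nonneg hs0.le (sub_nonneg.2 hsmall)]
    have hfin : 2 * (s : ℚ) - 1 ≤ (n : ℚ) * X := le_of_mul_le_mul_left
      (hkey.trans (le_of_le_of_eq (mul_le_mul_of_nonneg_left hC hn0.le) (by ring))) hPpos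
    linarith

open scoped Classical in
/-- The main statement. -/
theorem two_mul_card_le [FaithfulSMul G Ω] (htr : IsPretransitive G Ω) (hn : 7 ≤ Fintype.card Ω) :
    ((∀ g : G, g ≠ 1 → fix Ω g ≤ 1) ∧ (∃ g : G, g ≠ 1 ∧ ∃ ω : Ω, g • ω = ω) ∧
      Fintype.card G = Fintype.card Ω * (Fintype.card Ω - 1) ∧
      Fintype.card Ω * derangements G Ω = Fintype.card G) ∨
    2 * Fintype.card G ≤ Fintype.card Ω * derangements G Ω := by
  haveI := htr
  haveI : Nonempty Ω := Fintype.card_pos_iff.1 (by omega)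
  have hn1 : 1 ≤ Fintype.card Ω := by omega
  have hnonneg : 0 ≤ ∑ g ∈ univ.filter (fun g : G => fix Ω g ≠ 0),
      ((fix Ω g : ℚ) - 1) * ((Fintype.card Ω : ℚ) - fix Ω g) := sum_nonneg fun g hg => by
    have h1 : (1 : ℚ) ≤ fix Ω g := by
      exact_mod_cast Nat.one_le_iff_ne_zero.2 (mem_filter.1 hg).2
    have h2 : (fix Ω g : ℚ) ≤ Fintype.card Ω := by exact_mod_cast fix_le g
    exact mul_nonneg (by linarith) (by linarith)
  by_cases hrank : 3 ≤ Nat.card (Quotient (orbitRel G (Ω × Ω)))
  · right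
    have hr : (3 : ℚ) ≤ Nat.card (Quotient (orbitRel G (Ω × Ω))) := by exact_mod_cast hrank
    have hGpos : (0 : ℚ) ≤ Fintype.card G := by positivity
    suffices (2 : ℚ) * Fintype.card G ≤ (Fintype.card Ω : ℚ) * derangements G Ω by exact_mod_cast this
    rw [derangements_eq]
    nlinarith
  have h2 : IsTwoTrans G Ω := by
    intro a b x y hab hxy
    by_contra hno
    push Not at hno
    have h3 : ({Quotient.mk (orbitRel G (Ω × Ω)) (a, a), Quotient.mk _ (a, b), Quotient.mk _ (x, y)} :
        Set (Quotient (orbitRel G (Ω × Ω)))).ncard = 3 := by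
      refine Set.ncard_eq_three.2 ⟨_, _, _, ?_, ?_, ?_, rfl⟩
      · intro e
        obtain ⟨g, hg⟩ := mem_orbit_iff.1 (orbitRel_apply.1 (Quotient.exact e))
        simp only [Prod.smul_mk, Prod.mk.injEq] at hg
        exact hab (smul_left_cancel g (hg.1.trans hg.2.symm))
      · intro e
        obtain ⟨g, hg⟩ := mem_orbit_iff.1 (orbitRel_apply.1 (Quotient.exact e))
        simp only [Prod.smul_mk, Prod.mk.injEq] at hg
        exact hxy (smul_left_cancel g (hg.1.trans hg.2.symm))
      · intro e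
        obtain ⟨g, hg⟩ := mem_orbit_iff.1 (orbitRel_apply.1 (Quotient.exact e.symm))
        simp only [Prod.smul_mk, Prod.mk.injEq] at hg
        exact hno g hg.1 hg.2
    have := Set.ncard_le_card ({Quotient.mk (orbitRel G (Ω × Ω)) (a, a), Quotient.mk _ (a, b),
      Quotient.mk _ (x, y)} : Set (Quotient (orbitRel G (Ω × Ω))))
    rw [h3] at this
    exact hrank this
  obtain ⟨a, b, hab⟩ := Fintype.exists_pair_of_one_lt_card (α := Ω) (by omega)
  have hcard := card_group h2 hab
  have hD := derangements_two h2 hab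
  by_cases hs : Nat.card (pairStab G a b) = 1
  · left
    rw [hs, mul_one, Nat.card_eq_fintype_card] at hcard
    refine ⟨fun g hg => ?_, ?_, hcard, ?_⟩
    · by_contra hlt
      push Not at hlt
      obtain ⟨x, hx, y, hy, hxy⟩ := one_lt_card.1 hlt
      simp only [mem_filter, mem_univ, true_and] at hx hy
      have h1 : pairStab G x y = ⊥ := Subgroup.eq_bot_of_card_eq _ (by rw [← card_pairStab h2 hab hxy, hs])
      exact hg (Subgroup.mem_bot.1 (h1 ▸ (⟨hx, hy⟩ : g ∈ pairStab G x y)))
    · obtain ⟨c, -, hc⟩ : ∃ c ∈ (univ : Finset Ω), c ∉ ({a, b} : Finset Ω) :=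
        exists_mem_notMem_of_card_lt_card (Finset.card_le_two.trans_lt (by rw [card_univ]; omega))
      simp only [mem_insert, mem_singleton, not_or] at hc
      obtain ⟨g, hga, hgb⟩ := h2 a b a c hab (Ne.symm hc.1)
      exact ⟨g, fun h1 => hc.2 (by rw [h1, one_smul] at hgb; exact hgb.symm), a, hga⟩
    · have hS : (univ.filter fun g : G => g ∈ pairStab G a b) = {1} := by
        ext g
        simp [Subgroup.eq_bot_of_card_eq _ hs, Subgroup.mem_bot]
      have hn0 : (Fintype.card Ω : ℚ) ≠ 0 := by exact_mod_cast (by omega : Fintype.card Ω ≠ 0)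
      rw [hS, sum_singleton, fix_one, div_self hn0] at hD
      have hq : (Fintype.card G : ℚ) = (Fintype.card Ω : ℚ) * ((Fintype.card Ω : ℚ) - 1) := by
        rw [hcard, Nat.cast_mul, Nat.cast_sub hn1]
        norm_num
      have : (Fintype.card Ω : ℚ) * derangements G Ω = Fintype.card G := by
        rw [hD, hq]; ring
      exact_mod_cast this
  · right
    have hs2 : 2 ≤ Nat.card (pairStab G a b) := by
      have : 0 < Nat.card (pairStab G a b) := Nat.card_pos
      omega
    have h0 := stab_sum_nonneg h2 hn hab hs2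
    suffices (2 : ℚ) * Fintype.card G ≤ (Fintype.card Ω : ℚ) * derangements G Ω by exact_mod_cast this
    rw [hD]
    have hn2 : (1 : ℚ) ≤ Fintype.card Ω := by exact_mod_cast hn1
    exact le_add_of_nonneg_right (mul_nonneg (mul_nonneg (by linarith) (by linarith)) h0)

end CfsgLib.DerangeTwo
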