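import Cfsg.Agent.DerangeTwo.Geometry

/-!
# Orbit statistics of a two-point stabiliser
-/

set_option autoImplicit false

namespace CfsgLib.DerangeTwo

open MulAction Finset

variable {G Ω : Type*} [Group G] [MulAction G Ω] [Fintype G] [Fintype Ω]

open scoped Classical in
/-- `n + f = 2 o + σ`, where `σ = Σ (|orbit| - 2)`. -/
theorem card_add_fixSet (S : Subgroup G) :
    ∃ σ : ℕ, Fintype.card Ω + (fixSet Ω S).card = 2 * Nat.card (Quotient (orbitRel S Ω)) + σ ∧
      (σ = 0 → ∀ c : Ω, Nat.card (orbit S c) ≤ 2) ∧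
      (σ = 1 → ∃ c : Ω, Nat.card (orbit S c) = 3 ∧
        ∀ d : Ω, d ∉ orbit S c → Nat.card (orbit S d) ≤ 2) := by
  haveI : Fintype (Quotient (orbitRel S Ω)) := Fintype.ofFinite _
  set w : Quotient (orbitRel S Ω) → ℕ := fun q => Nat.card (orbitRel.Quotient.orbit q) with hw
  have hwmk : ∀ c : Ω, w (Quotient.mk _ c) = Nat.card (orbit S c) := fun c => by
    rw [hw]; exact Nat.card_congr (Equiv.setCongr (orbitRel.Quotient.orbit_mk c))
  have hsum : Fintype.card Ω = ∑ q, w q := by
    rw [← Nat.card_eq_fintype_card, Nat.card_congr (selfEquivSigmaOrbits' S Ω), Nat.card_sigma]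
  have hpos : ∀ q, 1 ≤ w q := fun q => by
    induction q using Quotient.inductionOn with | _ c =>
    rw [hwmk]
    exact Nat.card_pos_iff.2 ⟨⟨⟨c, mem_orbit_self c⟩⟩, inferInstance⟩
  have hiff : ∀ c : Ω, Nat.card (orbit S c) = 1 ↔ S ≤ stabilizer G c := by
    intro c
    rw [Nat.card_coe_set_eq, Set.ncard_eq_one]
    constructor
    · rintro ⟨d, hd⟩ k hk
      have h1 : k • c ∈ orbit S c := ⟨⟨k, hk⟩, rfl⟩
      have h2 : c ∈ orbit S c := mem_orbit_self c
      rw [hd, Set.mem_singleton_iff] at h1 h2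
      exact h1.trans h2.symm
    · intro h
      refine ⟨c, Set.eq_singleton_iff_unique_mem.2 ⟨mem_orbit_self c, ?_⟩⟩
      rintro _ ⟨k, rfl⟩
      exact h k.2
  have hfix : (fixSet Ω S).card = (univ.filter fun q => w q = 1).card := by
    refine card_bij (fun c _ => Quotient.mk _ c) ?_ ?_ ?_
    · intro c hc
      simp only [mem_filter, mem_univ, true_and]
      rw [hwmk]
      exact (hiff c).2 (mem_fixSet.1 hc)
    · intro c hc d _ he
      obtain ⟨k, hk⟩ := mem_orbit_iff.1 (orbitRel_apply.1 (Quotient.exact he.symm))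
      rw [← hk]
      exact ((mem_fixSet.1 hc) k.2).symm
    · intro q hq
      induction q using Quotient.inductionOn with | _ c =>
      simp only [mem_filter, mem_univ, true_and] at hq
      rw [hwmk] at hq
      exact ⟨c, mem_fixSet.2 ((hiff c).1 hq), rfl⟩
  refine ⟨∑ q, (w q - 2), ?_, ?_, ?_⟩
  · rw [hsum, hfix, card_filter, ← sum_add_distrib, Nat.card_eq_fintype_card, ← card_univ,
      mul_comm, ← smul_eq_mul, ← sum_const, ← sum_add_distrib]
    refine sum_congr rfl fun q _ => ?_
    have := hpos q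
    split_ifs <;> omega
  · intro h c
    have := (sum_eq_zero_iff).1 h (Quotient.mk _ c) (mem_univ _)
    rw [hwmk] at this
    omega
  · intro h
    obtain ⟨q, -, hq⟩ := exists_ne_zero_of_sum_ne_zero (s := univ) (f := fun q => w q - 2) (by omega)
    have hrest := (add_sum_erase univ (fun q => w q - 2) (mem_univ q)).trans h
    have hz := (sum_eq_zero_iff (s := univ.erase q) (f := fun q => w q - 2)).1 (by omega)
    induction q using Quotient.inductionOn with | _ c =>
    refine ⟨c, by rw [← hwmk]; omega, fun d hd => ?_⟩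
    have hne : Quotient.mk (orbitRel S Ω) d ≠ Quotient.mk _ c := fun e =>
      hd (orbitRel_apply.1 (Quotient.exact e))
    have := hz (Quotient.mk _ d) (mem_erase.2 ⟨hne, mem_univ _⟩)
    rw [hwmk] at this
    omega

end CfsgLib.DerangeTwo
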